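import Cfsg.Agent.H371.Core.Fam
import Mathlib
import Cfsg.Agent.H390.PslSpec
import Cfsg.Agent.S2904
import Cfsg.Agent.Prune
set_option linter.all false
prune_inst 0x7fbffffeffffbfffffff7e7ffff9fffe1bd5dfffffdffb43ffffebffdfff13ff3bcdffaf9de4faffded6e2f530b9f853fb7eeeffef6fdc7ffffdfff75ffbee7ff7ffbf8911d295240f746ffffbf17fce7f3fffffffffffffffffffffffffffffffffffffffff
open scoped Cfsg.Agent.FastGrp

-- part: H432/PG/Base
section
/-!
# Simple groups whose prime graph is that of `PSL_2(p)`: the conditions (helper432)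

`NP p n m` : the arithmetic, `{n, m} = {(p + 1) / 2, (p - 1) / 2}` with `n` odd.
`PB S p n m` : the prime divisors of `|S|` are among those of `p n m`, `p` and the primes dividing `n` do occur, `p` is
isolated, the primes of `n` are not adjacent to others.
-/

set_option autoImplicit false

namespace Cfsg.Agent.H432.PG

open Cfsg.Agent.H94

/-- `{n, m} = {(p + 1) / 2, (p - 1) / 2}` with `n` odd -/
structure NP (p n m : ℕ) : Prop where
  hp : p.Prime
  h11 : 11 < p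
  h12 : p % 12 ≠ 1
  hn : Odd n
  h : (p = 2 * n + 1 ∧ m = n + 1) ∨ (p + 1 = 2 * n ∧ n = m + 1)

/-- the conditions on the simple group -/
structure PB (S : Type*) [Group S] (p n m : ℕ) : Prop where
  A : NP p n m
  cov : ∀ r : ℕ, r.Prime → r ∣ Nat.card S → r = p ∨ r ∣ n ∨ r ∣ m
  dp : p ∣ Nat.card S
  dn : ∀ r : ℕ, r.Prime → r ∣ n → r ∣ Nat.card S
  ap : ∀ r : ℕ, ¬ H94.PG.Adj S p r
  an : ∀ r s : ℕ, r ∣ n → ¬ s ∣ n → ¬ H94.PG.Adj S r s

namespace NP
variable {p n m : ℕ} (A : NP p n m)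
include A

theorem n_pos : 5 < n := by have := A.h; have := A.h11; omega

theorem odd_p : p % 2 = 1 := by
  have := A.h
  omega

theorem even_m : 2 ∣ m := by
  obtain ⟨k, hk⟩ := A.hn
  have := A.h
  omega

theorem not_p_dvd_n : ¬ p ∣ n := by
  intro h
  have h1 := A.n_pos
  have h2 := Nat.le_of_dvd (by omega) h
  have := A.h
  omega

theorem two_not_dvd_n : ¬ 2 ∣ n := by
  obtain ⟨k, hk⟩ := A.hn
  omega

theorem sq_eq : (p : ℤ) ^ 2 - 1 = 4 * n * m := by
  rcases A.h with ⟨h1, h2⟩ | ⟨h1, h2⟩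
  · subst h1 h2
    push_cast
    ring
  · subst h2
    have : (p : ℤ) + 1 = 2 * (m + 1) := by exact_mod_cast h1
    have h3 : (p : ℤ) = 2 * m + 1 := by linarith
    rw [h3]
    push_cast
    ring

theorem ne_13 : p ≠ 13 := by
  rintro rfl
  exact A.h12 (by norm_num)

end NP

namespace PB
variable {S : Type*} [Group S] {p n m : ℕ}

theorem congr {T : Type*} [Group T] (B : PB S p n m) (e : S ≃* T) : PB T p n m where
  A := B.A
  cov := fun r hr h => B.cov r hr (by rwa [Nat.card_congr e.toEquiv])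
  dp := by rw [← Nat.card_congr e.toEquiv]; exact B.dp
  dn := fun r hr h => by rw [← Nat.card_congr e.toEquiv]; exact B.dn r hr h
  ap := fun r h => B.ap r (h.map e.symm.toMonoidHom e.symm.injective)
  an := fun r s h1 h2 h => B.an r s h1 h2 (h.map e.symm.toMonoidHom e.symm.injective)

variable (B : PB S p n m)
include B

theorem conn_p {r : ℕ} (h : H94.PG.Conn S p r) : r = p := by
  unfold H94.PG.Conn at h
  induction h with
  | refl => rfl
  | tail _ h ih => subst ih; exact absurd h (B.ap _)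

theorem conn_n {r s : ℕ} (hr : r ∣ n) (h : H94.PG.Conn S r s) : s ∣ n := by
  unfold H94.PG.Conn at h
  induction h with
  | refl => exact hr
  | tail _ h ih =>
    by_contra h1
    exact B.an _ _ ih h1 h

theorem not_conn_p : ¬ H94.PG.Conn S 2 p := by
  intro h
  have h1 := B.conn_p h.symm
  have := B.A.h11
  omega

theorem not_conn_n {r : ℕ} (hr : r ∣ n) : ¬ H94.PG.Conn S 2 r := fun h => B.A.two_not_dvd_n (B.conn_n hr h.symm)

theorem exists_prime : ∃ r : ℕ, r.Prime ∧ r ∣ n := by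
  have := B.A.n_pos
  obtain ⟨r, hr⟩ := Nat.exists_prime_and_dvd (n := n) (by omega)
  exact ⟨r, hr⟩

theorem ne_two {r : ℕ} (hr : r ∣ n) : r ≠ 2 := by
  rintro rfl
  exact B.A.two_not_dvd_n hr

theorem not_two : ¬ H371.Core.Two S := by
  intro h
  obtain ⟨r, hr, hrn⟩ := B.exists_prime
  have h11 := B.A.h11
  rcases h B.A.hp hr (by omega) (B.ne_two hrn) B.dp (B.dn r hr hrn) with h1 | h1 | h1
  · exact B.not_conn_p h1
  · exact B.not_conn_n hrn h1
  · have h2 := B.conn_p h1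
    rw [h2] at hrn
    exact B.A.not_p_dvd_n hrn

theorem dvd_sq {r : ℕ} (hr : r.Prime) (hd : r ∣ Nat.card S) (hrp : r ≠ p) : (r : ℤ) ∣ (p : ℤ) ^ 2 - 1 := by
  rw [B.A.sq_eq]
  rcases B.cov r hr hd with h | h | h
  · exact absurd h hrp
  · have : (r : ℤ) ∣ (n : ℤ) := Int.natCast_dvd_natCast.2 h
    exact Dvd.dvd.mul_right (Dvd.dvd.mul_left this 4) _
  · have : (r : ℤ) ∣ (m : ℤ) := Int.natCast_dvd_natCast.2 h
    exact Dvd.dvd.mul_left this _

/-- the order of an element, if divisible by `p`, is a power of `p` -/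
theorem pow_eq [Finite S] {N : ℕ} (h : ∃ g : S, orderOf g = N) (hN : p ∣ N) : ∃ a : ℕ, N = p ^ a := by
  obtain ⟨g, rfl⟩ := h
  have h0 : orderOf g ≠ 0 := (orderOf_pos g).ne'
  refine ⟨_, Nat.eq_prime_pow_of_unique_prime_dvd h0 fun {d} hd hdd => ?_⟩
  exact B.conn_p (H94.PG.conn_of_orderOf B.A.hp hd hN hdd)

/-- **The congruences.** -/
theorem pm {N : ℕ} (hN : ∃ a : ℕ, N = p ^ a) {r : ℕ} (hr : r.Prime) (hd : r ∣ Nat.card S) (hrp : r ≠ p) :
    (r : ℤ) ∣ (N : ℤ) ^ 2 - 1 := by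
  obtain ⟨a, rfl⟩ := hN
  refine (B.dvd_sq hr hd hrp).trans ?_
  push_cast
  rw [← pow_mul, mul_comm a 2, pow_mul]
  have := sub_dvd_pow_sub_pow ((p : ℤ) ^ 2) 1 a
  rwa [one_pow] at this

/-- the two signs -/
theorem pm' {N : ℕ} (hN : ∃ a : ℕ, N = p ^ a) {r : ℕ} (hr : r.Prime) (hd : r ∣ Nat.card S) (hrp : r ≠ p) :
    (r : ℤ) ∣ (N : ℤ) - 1 ∨ (r : ℤ) ∣ (N : ℤ) + 1 := by
  have h := B.pm hN hr hd hrp
  have e : (N : ℤ) ^ 2 - 1 = (N - 1) * (N + 1) := by ring
  rw [e] at h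
  exact (Nat.prime_iff_prime_int.1 hr).dvd_or_dvd h

/-- `p` is at least `17` -/
theorem p_ge : 17 ≤ p := by
  have h1 := B.A.h11
  have h2 := B.A.hp
  have h3 := B.A.ne_13
  by_contra h
  have : p = 12 ∨ p = 14 ∨ p = 15 ∨ p = 16 := by omega
  rcases this with rfl | rfl | rfl | rfl <;> revert h2 <;> norm_num

/-- all other primes of `|S|` satisfy the congruence: a numerical check for groups of known order -/
theorem card_false {N : ℕ} (hN : Nat.card S = N) (L : List ℕ) (k : ℕ) (hL : ∀ r ∈ L, r.Prime) (hk : N ∣ L.prod ^ k)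
    (h : ∀ q ∈ L, 11 < q → q % 12 ≠ 1 → ∃ r ∈ L, r ∣ N ∧ r ≠ q ∧ ¬ r ∣ q ^ 2 - 1) : False := by
  subst hN
  have h4 : p ∈ L := by
    have h1 : p ∣ L.prod := B.A.hp.dvd_of_dvd_pow (B.dp.trans hk)
    obtain ⟨a, ha, hpa⟩ := (Nat.Prime.prime B.A.hp).dvd_prod_iff.1 h1
    rwa [(Nat.prime_dvd_prime_iff_eq B.A.hp (hL a ha)).1 hpa]
  obtain ⟨r, hr, hr2, hne, hnd⟩ := h p h4 B.A.h11 B.A.h12
  apply hnd
  have h1 := B.dvd_sq (hL r hr) hr2 hne
  have h2 : 1 ≤ p ^ 2 := Nat.one_le_pow _ _ B.A.hp.pos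
  have h3 : ((p ^ 2 - 1 : ℕ) : ℤ) = (p : ℤ) ^ 2 - 1 := by push_cast [Nat.cast_sub h2]; ring
  rw [← h3] at h1
  exact Int.natCast_dvd_natCast.1 h1

end PB

end Cfsg.Agent.H432.PG

namespace Cfsg.Agent.H432.PG

open Cfsg.Agent.H94

namespace NP
variable {p n m : ℕ} (A : NP p n m)
include A

theorem coprime : Nat.Coprime n m := by
  rcases A.h with ⟨-, rfl⟩ | ⟨-, rfl⟩
  · simp
  · simp

theorem not_p_dvd_m : ¬ p ∣ m := by
  intro h
  have h1 := A.n_pos
  have h0 := A.h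
  have h2 := Nat.le_of_dvd (by omega) h
  omega

theorem prime_n_not_m {r : ℕ} (hr : r.Prime) (h : r ∣ n) : ¬ r ∣ m := by
  intro h2
  have h3 := Nat.dvd_gcd h h2
  rw [A.coprime] at h3
  exact hr.one_lt.ne' (Nat.dvd_one.1 h3)

end NP

/-- the prime graph of `G` is contained in that of `PSL_2(p)`, with the same vertices -/
structure GPg (G : Type*) [Group G] (p n m : ℕ) : Prop where
  A : NP p n m
  pr : ∀ r : ℕ, r.Prime → (r ∣ Nat.card G ↔ (r = p ∨ r ∣ n ∨ r ∣ m))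
  ad : ∀ r s : ℕ, r.Prime → s.Prime → r ≠ s → (∃ y : G, orderOf y = r * s) → r * s ∣ n ∨ r * s ∣ m

namespace GPg
variable {G : Type*} [Group G] {p n m : ℕ} (B : GPg G p n m)
include B

theorem not_p {r : ℕ} (hr : r.Prime) (hne : r ≠ p) : ¬ ∃ y : G, orderOf y = p * r := by
  intro h
  rcases B.ad p r B.A.hp hr hne.symm h with h | h
  · exact B.A.not_p_dvd_n ((Dvd.intro r rfl).trans h)
  · exact B.A.not_p_dvd_m ((Dvd.intro r rfl).trans h)

theorem not_n {r s : ℕ} (hr : r.Prime) (hs : s.Prime) (hrn : r ∣ n) (hsn : ¬ s ∣ n) : ¬ ∃ y : G, orderOf y = r * s := by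
  intro h
  rcases B.ad r s hr hs (by rintro rfl; exact hsn hrn) h with h | h
  · exact hsn ((Dvd.intro_left r rfl).trans h)
  · exact B.A.prime_n_not_m hr hrn ((Dvd.intro s rfl).trans h)

/-- the odd primes not adjacent to `2` -/
theorem not_two {u : ℕ} (h : u = p ∨ (u.Prime ∧ u ∣ n)) : u.Prime ∧ u ≠ 2 ∧ u ∣ Nat.card G ∧
    ¬ ∃ y : G, orderOf y = 2 * u := by
  have h11 := B.A.h11
  rcases h with rfl | ⟨h1, h2⟩
  · refine ⟨B.A.hp, by omega, (B.pr _ B.A.hp).2 (Or.inl rfl), ?_⟩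
    rw [mul_comm]
    exact B.not_p Nat.prime_two (by omega)
  · refine ⟨h1, ?_, (B.pr _ h1).2 (Or.inr (Or.inl h2)), ?_⟩
    · rintro rfl
      exact B.A.two_not_dvd_n h2
    · rw [mul_comm]
      exact B.not_n h1 Nat.prime_two h2 B.A.two_not_dvd_n

theorem congr {H : Type*} [Group H] (e : G ≃* H) : GPg H p n m where
  A := B.A
  pr := fun r hr => by rw [← Nat.card_congr e.toEquiv]; exact B.pr r hr
  ad := fun r s hr hs hne ⟨y, hy⟩ => B.ad r s hr hs hne ⟨e.symm y, by rw [MulEquiv.orderOf_eq, hy]⟩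

end GPg

end Cfsg.Agent.H432.PG
end

-- part: H432/PG/Num
section
/-!
# The congruences `N ≡ ± 1` modulo the other primes (helper432)

`N` is the order of the cyclic torus containing the elements of order `p`, so `N` is a power of `p`; all other primes
`r` of the group order divide `p ^ 2 - 1`, hence `N - 1` or `N + 1`. This kills `G₂`, `F₄`, `E₈`, `²F₄`, `Sz`, `Ree`.
-/

set_option autoImplicit false

namespace Cfsg.Agent.H432.PG.Num

theorem of_bez {r : ℕ} {X Y A B c : ℤ} (hX : (r : ℤ) ∣ X) (hY : (r : ℤ) ∣ Y) (e : A * X + B * Y = c) :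
    (r : ℤ) ∣ c := by
  rw [← e]
  exact dvd_add (Dvd.dvd.mul_left hX A) (Dvd.dvd.mul_left hY B)

theorem exists_prime_int {x : ℤ} (h : 1 < x) : ∃ r : ℕ, r.Prime ∧ (r : ℤ) ∣ x := by
  obtain ⟨r, hr, hd⟩ := Nat.exists_prime_and_dvd (n := x.natAbs) (by omega)
  exact ⟨r, hr, Int.natCast_dvd.2 hd⟩

theorem exists_odd_prime_int {x : ℤ} (h : 1 < x) (h2 : x % 2 = 1) : ∃ r : ℕ, r.Prime ∧ r ≠ 2 ∧ (r : ℤ) ∣ x := by
  obtain ⟨r, hr, hd⟩ := exists_prime_int h
  refine ⟨r, hr, ?_, hd⟩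
  rintro rfl
  push_cast at hd
  omega

theorem eq_of_dvd {r : ℕ} (hr : r.Prime) {c : ℕ} (hc : c.Prime) (h : (r : ℤ) ∣ (c : ℤ)) : r = c :=
  (Nat.prime_dvd_prime_iff_eq hr hc).1 (Int.natCast_dvd_natCast.1 h)

theorem not_dvd_one {r : ℕ} (hr : r.Prime) (h : (r : ℤ) ∣ 1) : False := by
  have h1 : r ∣ 1 := by exact_mod_cast h
  exact hr.one_lt.ne' (Nat.dvd_one.1 h1)

theorem dvd_zmod (n : ℕ) (x : ℤ) : (n : ℤ) ∣ x ↔ (x : ZMod n) = 0 := (ZMod.intCast_zmod_eq_zero_iff_dvd x n).symm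

/-- the congruences -/
def Cg (p : ℕ) (N : ℤ) (X : ℤ) : Prop :=
  ∀ r : ℕ, r.Prime → (r : ℤ) ∣ X → r ≠ p → (r : ℤ) ∣ N - 1 ∨ (r : ℤ) ∣ N + 1

/-! ### `E₈` -/

def e15 (q : ℤ) : ℤ := q ^ 8 - q ^ 7 + q ^ 5 - q ^ 4 + q ^ 3 - q + 1
def e20 (q : ℤ) : ℤ := q ^ 8 - q ^ 6 + q ^ 4 - q ^ 2 + 1
def e24 (q : ℤ) : ℤ := q ^ 8 - q ^ 4 + 1
def e30 (q : ℤ) : ℤ := q ^ 8 + q ^ 7 - q ^ 5 - q ^ 4 - q ^ 3 + q + 1

theorem not_five_e24 (q : ℤ) : ¬ ((5 : ℕ) : ℤ) ∣ e24 q := by
  rw [dvd_zmod]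
  unfold e24
  push_cast
  generalize (q : ZMod 5) = x
  revert x
  decide

theorem not_three_e24 (q : ℤ) : ¬ ((3 : ℕ) : ℤ) ∣ e24 q := by
  rw [dvd_zmod]
  unfold e24
  push_cast
  generalize (q : ZMod 3) = x
  revert x
  decide

theorem e24_gt {q : ℤ} (hq : 2 ≤ q) : 1 < e24 q := by
  unfold e24
  have h1 : 16 ≤ q ^ 4 := by
    calc (16 : ℤ) = 2 ^ 4 := by norm_num
      _ ≤ q ^ 4 := pow_le_pow_left₀ (by norm_num) hq 4
  nlinarith only [h1]

theorem e15_gt {q : ℤ} (hq : 2 ≤ q) : 1 < e15 q := by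
  unfold e15
  have h0 : (0 : ℤ) ≤ q := by linarith
  have h1 : ∀ k : ℕ, q ^ k * 2 ≤ q ^ (k + 1) := by
    intro k
    rw [pow_succ]
    exact mul_le_mul_of_nonneg_left hq (pow_nonneg h0 k)
  have a1 := h1 1
  have a2 := h1 2
  have a3 := h1 3
  have a4 := h1 4
  have a5 := h1 5
  have a6 := h1 6
  have a7 := h1 7
  norm_num only [_root_.pow_one] at a1 a2 a3 a4 a5 a6 a7
  linarith

theorem e30_gt {q : ℤ} (hq : 2 ≤ q) : 1 < e30 q := by
  unfold e30
  have h0 : (0 : ℤ) ≤ q := by linarith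
  have h1 : ∀ k : ℕ, q ^ k * 2 ≤ q ^ (k + 1) := by
    intro k
    rw [pow_succ]
    exact mul_le_mul_of_nonneg_left hq (pow_nonneg h0 k)
  have a1 := h1 1
  have a2 := h1 2
  have a3 := h1 3
  have a4 := h1 4
  have a5 := h1 5
  have a6 := h1 6
  have a7 := h1 7
  norm_num only [_root_.pow_one] at a1 a2 a3 a4 a5 a6 a7
  linarith

/-- numerics for `E₈(q)` -/
theorem num_E8 {p : ℕ} (hp : p.Prime) {q N : ℤ} (hq : 2 ≤ q) (hpN : (p : ℤ) ∣ N)
    (hN : N = e15 q ∨ N = e20 q ∨ N = e24 q ∨ N = e30 q)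
    (c15 : Cg p N (e15 q)) (c24 : Cg p N (e24 q)) (c30 : Cg p N (e30 q)) : False := by
  obtain ⟨r, hr, hr24⟩ := exists_prime_int (e24_gt hq)
  have key5 : (r : ℤ) ∣ 5 → False := fun h => by
    have := eq_of_dvd hr (c := 5) (by norm_num) h
    subst this
    exact not_five_e24 q hr24
  have key3 : (r : ℤ) ∣ 3 → False := fun h => by
    have := eq_of_dvd hr (c := 3) (by norm_num) h
    subst this
    exact not_three_e24 q hr24
  rcases hN with rfl | rfl | rfl | rfl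
  · have hrp : r ≠ p := by
      rintro rfl
      exact not_dvd_one hr (of_bez (A := -q ^ 7 - q ^ 5 + q) (B := q ^ 7 - q ^ 6 + q ^ 5 + q ^ 2 - q + 1) hpN hr24
        (by unfold e15 e24; ring))
    rcases c24 r hr hr24 hrp with h | h
    · exact key5 (of_bez (A := -q ^ 6 + 2 * q ^ 5 + q ^ 2 - 2 * q + 5)
        (B := q ^ 6 - q ^ 5 - q ^ 4 - 2 * q ^ 3 - 2 * q ^ 2 + q - 2) hr24 h (by unfold e15 e24; ring))
    · exact key5 (of_bez (A := q ^ 6 - 2 * q ^ 4 + 4 * q ^ 3 - 3 * q ^ 2 + 1)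
        (B := -q ^ 6 - q ^ 5 + q ^ 4 - 2 * q ^ 3 + 2 * q ^ 2 + q + 2) hr24 h (by unfold e15 e24; ring))
  · have hrp : r ≠ p := by
      rintro rfl
      exact not_dvd_one hr (of_bez (A := -2 * q ^ 6 - 2 * q ^ 4 + q ^ 2 + 2) (B := 2 * q ^ 6 + q ^ 2 - 1) hpN hr24
        (by unfold e20 e24; ring))
    rcases c24 r hr hr24 hrp with h | h
    · exact key3 (of_bez (A := -q ^ 6 + 2 * q ^ 4 - q ^ 2 + 3) (B := q ^ 6 - q ^ 4 - 2 * q ^ 2 - 1) hr24 h
        (by unfold e20 e24; ring))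
    · exact key5 (of_bez (A := q ^ 6 - q ^ 2 - 1) (B := -q ^ 6 - q ^ 4 + 2 * q ^ 2 + 3) hr24 h
        (by unfold e20 e24; ring))
  · obtain ⟨s, hs, hs15⟩ := exists_prime_int (e15_gt hq)
    obtain ⟨t, ht, ht30⟩ := exists_prime_int (e30_gt hq)
    have hsp : s ≠ p := by
      rintro rfl
      exact not_dvd_one hs (of_bez (A := q ^ 7 - q ^ 6 + q ^ 5 + q ^ 2 - q + 1) (B := -q ^ 7 - q ^ 5 + q) hpN hs15
        (by unfold e15 e24; ring))
    have htp : t ≠ p := by
      rintro rfl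
      exact not_dvd_one ht (of_bez (A := -q ^ 7 - q ^ 6 - q ^ 5 + q ^ 2 + q + 1) (B := q ^ 7 + q ^ 5 - q) hpN ht30
        (by unfold e30 e24; ring))
    have h1 : s = 211 := by
      rcases c15 s hs hs15 hsp with h | h
      · exact (not_dvd_one hs (of_bez (A := -q ^ 6 - q ^ 5 + q ^ 2 + q + 1) (B := q ^ 6 - q ^ 4 + q ^ 3) hs15 h
          (by unfold e15 e24; ring))).elim
      · exact eq_of_dvd hs (by norm_num) (of_bez
          (A := -24 * q ^ 7 - 13 * q ^ 6 - 51 * q ^ 5 - 54 * q ^ 4 - 58 * q ^ 3 - 49 * q ^ 2 + 35 * q - 25)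
          (B := 24 * q ^ 7 - 11 * q ^ 6 + 38 * q ^ 5 + 27 * q ^ 4 + 17 * q ^ 3 + 42 * q ^ 2 - 30 * q + 118) hs15 h
          (by unfold e15 e24; push_cast; ring))
    have h2 : t = 211 := by
      rcases c30 t ht ht30 htp with h | h
      · exact (not_dvd_one ht (of_bez (A := -q ^ 6 + q ^ 5 + q ^ 2 - q + 1) (B := q ^ 6 - q ^ 4 - q ^ 3) ht30 h
          (by unfold e30 e24; ring))).elim
      · exact eq_of_dvd ht (by norm_num) (of_bez
          (A := 24 * q ^ 7 - 13 * q ^ 6 + 51 * q ^ 5 - 54 * q ^ 4 + 58 * q ^ 3 - 49 * q ^ 2 - 35 * q - 25)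
          (B := -24 * q ^ 7 - 11 * q ^ 6 - 38 * q ^ 5 + 27 * q ^ 4 - 17 * q ^ 3 + 42 * q ^ 2 + 30 * q + 118) ht30 h
          (by unfold e30 e24; push_cast; ring))
    subst h1 h2
    have h3 := of_bez (A := -q ^ 7 - q ^ 6 - q ^ 5 + q ^ 2 + q + 1) (B := q ^ 7 - q ^ 6 + q ^ 5 + q ^ 2 - q + 1)
      (c := 2) hs15 ht30 (by unfold e15 e30; ring)
    norm_num at h3
  · have hrp : r ≠ p := by
      rintro rfl
      exact not_dvd_one hr (of_bez (A := q ^ 7 + q ^ 5 - q) (B := -q ^ 7 - q ^ 6 - q ^ 5 + q ^ 2 + q + 1) hpN hr24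
        (by unfold e30 e24; ring))
    rcases c24 r hr hr24 hrp with h | h
    · exact key5 (of_bez (A := -q ^ 6 - 2 * q ^ 5 + q ^ 2 + 2 * q + 5)
        (B := q ^ 6 + q ^ 5 - q ^ 4 + 2 * q ^ 3 - 2 * q ^ 2 - q - 2) hr24 h (by unfold e30 e24; ring))
    · exact key5 (of_bez (A := q ^ 6 - 2 * q ^ 4 - 4 * q ^ 3 - 3 * q ^ 2 + 1)
        (B := -q ^ 6 + q ^ 5 + q ^ 4 + 2 * q ^ 3 + 2 * q ^ 2 - q + 2) hr24 h (by unfold e30 e24; ring))

/-! ### `F₄` -/

/-- numerics for `F₄(q)` -/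
theorem num_F4 {p : ℕ} {q N : ℤ} (hq : 2 ≤ q) (hp : p.Prime) (hpN : (p : ℤ) ∣ N)
    (hN : N = q ^ 4 + 1 ∨ N = q ^ 4 - q ^ 2 + 1) (c8 : Cg p N (q ^ 4 + 1)) (c12 : Cg p N (q ^ 4 - q ^ 2 + 1)) :
    False := by
  rcases hN with rfl | rfl
  · obtain ⟨r, hr, hd⟩ := exists_prime_int (x := q ^ 4 - q ^ 2 + 1) (by nlinarith only [hq, sq_nonneg (q ^ 2 - 1)])
    have h3 : (r : ℤ) ∣ 3 → False := fun h => by
      have := eq_of_dvd hr (c := 3) (by norm_num) h
      subst this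
      revert hd
      rw [dvd_zmod]
      push_cast
      generalize (q : ZMod 3) = x
      revert x
      decide
    have hrp : r ≠ p := by
      rintro rfl
      exact not_dvd_one hr (of_bez (A := 1 - q ^ 2) (B := q ^ 2) hpN hd (by ring))
    rcases c12 r hr hd hrp with h | h
    · exact not_dvd_one hr (of_bez (A := q ^ 2 + 1) (B := -q ^ 2) hd h (by ring))
    · exact h3 (of_bez (A := q ^ 2 - 1) (B := -q ^ 2 + 2) hd h (by ring))
  · have hodd : ∃ r : ℕ, r.Prime ∧ r ≠ 2 ∧ (r : ℤ) ∣ q ^ 4 + 1 := by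
      rcases Int.even_or_odd q with ⟨c, hc⟩ | ⟨c, hc⟩
      · have e : q ^ 4 + 1 = 2 * (8 * c ^ 4) + 1 := by rw [hc]; ring
        refine exists_odd_prime_int ?_ ?_
        · have : 0 < q ^ 4 := by positivity
          linarith
        · rw [e]
          omega
      · obtain ⟨r, hr, hr2, hd⟩ := exists_odd_prime_int (x := 8 * c ^ 4 + 16 * c ^ 3 + 12 * c ^ 2 + 4 * c + 1) (by
          have hc1 : 1 ≤ c := by omega
          have h3 : 0 ≤ c ^ 3 := by positivity
          have h4 : 0 ≤ c ^ 4 := by positivity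
          have h2 : 0 ≤ c ^ 2 := by positivity
          linarith) (by omega)
        refine ⟨r, hr, hr2, ?_⟩
        have e : q ^ 4 + 1 = 2 * (8 * c ^ 4 + 16 * c ^ 3 + 12 * c ^ 2 + 4 * c + 1) := by rw [hc]; ring
        rw [e]
        exact Dvd.dvd.mul_left hd 2
    obtain ⟨r, hr, hr2, hd⟩ := hodd
    have h2 : (r : ℤ) ∣ 2 → False := fun h => hr2 (eq_of_dvd hr Nat.prime_two h)
    have hrp : r ≠ p := by
      rintro rfl
      exact not_dvd_one hr (of_bez (A := q ^ 2) (B := 1 - q ^ 2) hpN hd (by ring))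
    rcases c8 r hr hd hrp with h | h
    · exact h2 (of_bez (A := -q ^ 2 + 2) (B := q ^ 2 - 1) hd h (by ring))
    · exact h2 (of_bez (A := -q ^ 2) (B := q ^ 2 + 1) hd h (by ring))

/-! ### `G₂` -/

theorem pow_of_primes {x : ℤ} (hx : 0 < x) {c : ℕ} (h : ∀ r : ℕ, r.Prime → (r : ℤ) ∣ x → r = c) :
    ∃ k : ℕ, x = (c : ℤ) ^ k := by
  have h1 : ∀ {d : ℕ}, d.Prime → d ∣ x.natAbs → d = c := fun hd hdd => h _ hd (Int.natCast_dvd.2 hdd)
  have h2 := Nat.eq_prime_pow_of_unique_prime_dvd (n := x.natAbs) (by omega) h1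
  refine ⟨x.natAbs.primeFactorsList.length, ?_⟩
  have h3 : (x.natAbs : ℤ) = x := by omega
  rw [← h3]
  exact_mod_cast h2

theorem not_nine {q : ℤ} : ¬ ((9 : ℕ) : ℤ) ∣ q ^ 2 - q + 1 ∧ ¬ ((9 : ℕ) : ℤ) ∣ q ^ 2 + q + 1 := by
  rw [dvd_zmod, dvd_zmod]
  push_cast
  generalize (q : ZMod 9) = x
  revert x
  decide

/-- a positive integer with the only prime `3` and not divisible by `9` -/
theorem three_pow {x : ℤ} (hx : 0 < x) (h : ∀ r : ℕ, r.Prime → (r : ℤ) ∣ x → r = 3) (h9 : ¬ ((9 : ℕ) : ℤ) ∣ x) :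
    x = 1 ∨ x = 3 := by
  obtain ⟨k, rfl⟩ := pow_of_primes hx h
  rcases k with _ | _ | k
  · left; simp
  · right; simp
  · exfalso
    apply h9
    exact Dvd.intro_left ((3 : ℤ) ^ k) (by push_cast; ring)

/-- a positive integer with primes `3` and `7` and not divisible by `9` -/
theorem seven_pow {x : ℤ} (hx : 0 < x) (h : ∀ r : ℕ, r.Prime → (r : ℤ) ∣ x → r = 3 ∨ r = 7)
    (h9 : ¬ ((9 : ℕ) : ℤ) ∣ x) : ∃ y : ℕ, x = 7 ^ y ∨ x = 3 * 7 ^ y := by
  obtain ⟨y, m, hm, hxm⟩ := Nat.exists_eq_pow_mul_and_not_dvd (n := x.natAbs) (by omega) 7 (by norm_num)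
  have hx' : (x.natAbs : ℤ) = x := by omega
  have hxm' : x = 7 ^ y * (m : ℤ) := by
    rw [← hx', hxm]
    push_cast
    ring
  have hm0 : 0 < (m : ℤ) := by
    rcases Nat.eq_zero_or_pos m with h0 | h0
    · rw [h0] at hxm'
      simp at hxm'
      omega
    · exact_mod_cast h0
  have h1 := three_pow hm0 (fun r hr hd => by
      rcases h r hr (by rw [hxm']; exact Dvd.dvd.mul_left hd _) with h | h
      · exact h
      · subst h
        exact absurd (Int.natCast_dvd_natCast.1 hd) hm) (fun h => h9 (by rw [hxm']; exact Dvd.dvd.mul_left h _))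
  rcases h1 with h1 | h1
  · exact ⟨y, Or.inl (by rw [hxm', h1, mul_one])⟩
  · exact ⟨y, Or.inr (by rw [hxm', h1, mul_comm])⟩

theorem two_pow_mod7 (k : ℕ) : (2 : ℤ) ^ k % 7 = 1 ∨ (2 : ℤ) ^ k % 7 = 2 ∨ (2 : ℤ) ^ k % 7 = 4 := by
  induction k with
  | zero => left; rfl
  | succ k ih => rw [pow_succ]; omega

theorem seven_pow_mod8 (k : ℕ) : (7 : ℤ) ^ (2 * k) % 8 = 1 ∧ (7 : ℤ) ^ (2 * k + 1) % 8 = 7 := by
  induction k with
  | zero => constructor <;> rfl
  | succ k ih =>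
    have e1 : (7 : ℤ) ^ (2 * (k + 1)) = 49 * 7 ^ (2 * k) := by rw [mul_add, pow_add]; ring
    have e2 : (7 : ℤ) ^ (2 * (k + 1) + 1) = 49 * 7 ^ (2 * k + 1) := by
      rw [show 2 * (k + 1) + 1 = 2 + (2 * k + 1) by ring, pow_add]; ring
    rw [e1, e2]
    omega

/-- `q - 1 = 2 ^ k`, `q ^ 2 - q + 1` with primes `3`, `7`, `q ≡ 3 mod 7`: `q = 3` -/
theorem q_eq_three {q : ℤ} (hq : 3 ≤ q) {k : ℕ} (hk : q - 1 = 2 ^ k) (h7 : q % 7 = 3)
    (h : ∀ r : ℕ, r.Prime → (r : ℤ) ∣ q ^ 2 - q + 1 → r = 3 ∨ r = 7) : q = 3 := by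
  obtain ⟨y, hy⟩ := seven_pow (by nlinarith) h not_nine.1
  rcases k with _ | _ | _ | k
  · norm_num at hk; omega
  · norm_num at hk; omega
  · norm_num at hk; omega
  · exfalso
    have e8 : (2 : ℤ) ^ (k + 1 + 1 + 1) = 8 * 2 ^ k := by ring
    rw [e8] at hk
    have e1 : q ^ 2 - q = 8 * (2 ^ k * q) := by
      have : q ^ 2 - q = q * (q - 1) := by ring
      rw [this, hk]; ring
    rcases Nat.even_or_odd' y with ⟨z, rfl | rfl⟩
    · obtain ⟨h8, -⟩ := seven_pow_mod8 z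
      rcases hy with hy | hy
      · -- between squares
        have e2 : (7 : ℤ) ^ (2 * z) = (7 ^ z) ^ 2 := by rw [mul_comm, pow_mul]
        rw [e2] at hy
        have h0 : (0 : ℤ) < 7 ^ z := by positivity
        have h1 : (7 : ℤ) ^ z < q := by nlinarith only [hq, hy]
        have h2 : q - 1 < (7 : ℤ) ^ z := by nlinarith only [hy, h0]
        omega
      · (clear * - e1 h8 hy; omega)
    · obtain ⟨-, h8⟩ := seven_pow_mod8 z
      rcases hy with hy | hy <;> (clear * - e1 h8 hy; omega)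

/-- numerics for `G₂(q)` -/
theorem num_G2 {p : ℕ} (hp : p.Prime) (h17 : 17 ≤ p) {q N : ℤ} (hq : 3 ≤ q) (hpN : ∃ a : ℕ, N = (p : ℤ) ^ a)
    (hdN : (p : ℤ) ∣ N) (hN : N = q ^ 2 + q + 1 ∨ N = q ^ 2 - q + 1) (c1 : Cg p N (q - 1)) (c2 : Cg p N (q + 1))
    (c3 : Cg p N (q ^ 2 + q + 1)) (c6 : Cg p N (q ^ 2 - q + 1)) : False := by
  have hsmall : ∀ {c : ℕ}, c.Prime → c < 17 → (p : ℤ) ∣ c → False := fun hc hlt h => by
    have := eq_of_dvd hp hc h
    omega
  rcases hN with rfl | rfl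
  · -- `q - 1 = 2 ^ k`
    have h1 : ∃ k : ℕ, q - 1 = ((2 : ℕ) : ℤ) ^ k := by
      refine pow_of_primes (by omega) fun r hr hd => ?_
      have hrp : r ≠ p := by
        rintro rfl
        exact hsmall (c := 3) (by norm_num) (by norm_num) (of_bez (A := -q - 2) (B := 1) hd hdN (by push_cast; ring))
      rcases c1 r hr hd hrp with h | h
      · exact eq_of_dvd hr Nat.prime_two (of_bez (A := -q - 2) (B := 1) hd h (by push_cast; ring))
      · have h4 : (r : ℤ) ∣ 2 ^ 2 := of_bez (A := -q - 2) (B := 1) hd h (by ring)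
        exact eq_of_dvd hr Nat.prime_two ((Nat.prime_iff_prime_int.1 hr).dvd_of_dvd_pow h4)
    obtain ⟨k, hk⟩ := h1
    push_cast at hk
    have h6 : ∀ r : ℕ, r.Prime → (r : ℤ) ∣ q ^ 2 - q + 1 → r = 3 ∨ (r = 7 ∧ (7 : ℤ) ∣ 2 * q + 1) := by
      intro r hr hd
      have hrp : r ≠ p := by
        rintro rfl
        have h1 : (r : ℤ) ∣ 2 * q := by
          have := dvd_sub hdN hd
          ring_nf at this ⊢
          exact this
        rcases (Nat.prime_iff_prime_int.1 hp).dvd_or_dvd h1 with h | h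
        · exact hsmall Nat.prime_two (by norm_num) (by exact_mod_cast h)
        · exact not_dvd_one hr (of_bez (A := 1) (B := 1 - q) hd h (by ring))
      rcases c6 r hr hd hrp with h | h
      · have h1 : (r : ℤ) ∣ 2 * q - 1 := by
          have := dvd_sub h hd
          ring_nf at this ⊢
          exact this
        left
        exact eq_of_dvd hr Nat.prime_three (of_bez (A := 4) (B := 1 - 2 * q) hd h1 (by push_cast; ring))
      · have h1 : (r : ℤ) ∣ 2 * q + 1 := by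
          have := dvd_sub h hd
          ring_nf at this ⊢
          exact this
        have h7 := eq_of_dvd hr (c := 7) (by norm_num) (of_bez (A := 4) (B := 3 - 2 * q) hd h1 (by push_cast; ring))
        right
        refine ⟨h7, ?_⟩
        rw [h7] at h1
        exact_mod_cast h1
    by_cases h7 : ∀ r : ℕ, r.Prime → (r : ℤ) ∣ q ^ 2 - q + 1 → r = 3
    · rcases three_pow (by nlinarith only []) h7 not_nine.1 with h | h <;> nlinarith only [hq, h]
    · push Not at h7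
      obtain ⟨r, hr, hd, hr3⟩ := h7
      obtain ⟨-, h2⟩ := (h6 r hr hd).resolve_left hr3
      have hq3 := q_eq_three hq hk (by (clear * - h2; omega)) (fun r hr hd => (h6 r hr hd).imp_right And.left)
      subst hq3
      have h13 : (p : ℤ) ∣ ((13 : ℕ) : ℤ) := by
        push_cast
        norm_num at hdN
        exact hdN
      exact hsmall (c := 13) (by norm_num) (by norm_num) h13
  · have h1 : ∃ k : ℕ, q + 1 = ((2 : ℕ) : ℤ) ^ k := by
      refine pow_of_primes (by omega) fun r hr hd => ?_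
      have hrp : r ≠ p := by
        rintro rfl
        exact hsmall (c := 3) (by norm_num) (by norm_num) (of_bez (A := -q + 2) (B := 1) hd hdN (by push_cast; ring))
      rcases c2 r hr hd hrp with h | h
      · exact eq_of_dvd hr Nat.prime_two (of_bez (A := -q + 2) (B := 1) hd h (by push_cast; ring))
      · have h4 : (r : ℤ) ∣ 2 ^ 2 := of_bez (A := -q + 2) (B := 1) hd h (by ring)
        exact eq_of_dvd hr Nat.prime_two ((Nat.prime_iff_prime_int.1 hr).dvd_of_dvd_pow h4)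
    obtain ⟨k, hk⟩ := h1
    push_cast at hk
    have h3 : ∀ r : ℕ, r.Prime → (r : ℤ) ∣ q ^ 2 + q + 1 → r = 3 := by
      intro r hr hd
      have hrp : r ≠ p := by
        rintro rfl
        have h1 : (r : ℤ) ∣ 2 * q := by
          have := dvd_sub hd hdN
          ring_nf at this ⊢
          exact this
        rcases (Nat.prime_iff_prime_int.1 hp).dvd_or_dvd h1 with h | h
        · exact hsmall Nat.prime_two (by norm_num) (by exact_mod_cast h)
        · exact not_dvd_one hr (of_bez (A := 1) (B := -1 - q) hd h (by ring))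
      rcases c3 r hr hd hrp with h | h
      · have h1 : (r : ℤ) ∣ 2 * q + 1 := by
          have := dvd_sub hd h
          ring_nf at this ⊢
          exact this
        exact eq_of_dvd hr Nat.prime_three (of_bez (A := 4) (B := -1 - 2 * q) hd h1 (by push_cast; ring))
      · have h1 : (r : ℤ) ∣ 2 * q - 1 := by
          have := dvd_sub hd h
          ring_nf at this ⊢
          exact this
        have h7 := eq_of_dvd hr (c := 7) (by norm_num) (of_bez (A := 4) (B := -3 - 2 * q) hd h1 (by push_cast; ring))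
        rw [h7] at h1
        have h2 : (7 : ℤ) ∣ 2 * q - 1 := by exact_mod_cast h1
        have := two_pow_mod7 k
        rw [← hk] at this
        (clear * - h1 h7 this; omega)
    rcases three_pow (by linarith only [hq, _root_.sq_nonneg (q : ℤ)]) h3 not_nine.2 with h | h <;> linarith only [hq, h, _root_.sq_nonneg (q : ℤ)]

/-! ### `²F₄`, `Sz`, `Ree` -/

/-- numerics for `²F₄(2 b ^ 2)`: a prime dividing `2 b ^ 2 - 1` -/
theorem num_2F4 {p : ℕ} (hp : p.Prime) {b N : ℤ} (hb : 2 ≤ b) (hdN : (p : ℤ) ∣ N)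
    (hN : N = 4 * b ^ 4 + 4 * b ^ 3 + 2 * b ^ 2 + 2 * b + 1 ∨ N = 4 * b ^ 4 - 4 * b ^ 3 + 2 * b ^ 2 - 2 * b + 1)
    (c : Cg p N (2 * b ^ 2 - 1)) : False := by
  obtain ⟨r, hr, hr2, hd⟩ := exists_odd_prime_int (x := 2 * b ^ 2 - 1) (by nlinarith) (by omega)
  have h2 : (r : ℤ) ∣ 2 → False := fun h => hr2 (eq_of_dvd hr Nat.prime_two h)
  have h2' : ∀ {x : ℤ}, (r : ℤ) ∣ 2 * x → (r : ℤ) ∣ x := fun h =>
    ((Nat.prime_iff_prime_int.1 hr).dvd_or_dvd h).resolve_left h2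
  rcases hN with rfl | rfl
  · have hrp : r ≠ p := by
      rintro rfl
      have h1 : (r : ℤ) ∣ 4 * b + 3 := of_bez (A := -(2 * b ^ 2 + 2 * b + 2)) (B := 1) hd hdN (by ring)
      exact not_dvd_one hr (of_bez (A := 8) (B := -4 * b + 3) hd h1 (by ring))
    rcases c r hr hd hrp with h | h
    · have h1 : (r : ℤ) ∣ 2 * (2 * b + 1) := of_bez (A := -(2 * b ^ 2 + 2 * b + 2)) (B := 1) hd h (by ring)
      exact not_dvd_one hr (of_bez (A := -2) (B := 2 * b - 1) hd (h2' h1) (by ring))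
    · have h1 : (r : ℤ) ∣ 2 * (2 * (b + 1)) := of_bez (A := -(2 * b ^ 2 + 2 * b + 2)) (B := 1) hd h (by ring)
      exact not_dvd_one hr (of_bez (A := 1) (B := -2 * (b - 1)) hd (h2' (h2' h1)) (by ring))
  · have hrp : r ≠ p := by
      rintro rfl
      have h1 : (r : ℤ) ∣ -4 * b + 3 := of_bez (A := -(2 * b ^ 2 - 2 * b + 2)) (B := 1) hd hdN (by ring)
      exact not_dvd_one hr (of_bez (A := 8) (B := 4 * b + 3) hd h1 (by ring))
    rcases c r hr hd hrp with h | h
    · have h1 : (r : ℤ) ∣ 2 * (-2 * b + 1) := of_bez (A := -(2 * b ^ 2 - 2 * b + 2)) (B := 1) hd h (by ring)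
      exact not_dvd_one hr (of_bez (A := -2) (B := -2 * b - 1) hd (h2' h1) (by ring))
    · have h1 : (r : ℤ) ∣ 2 * (2 * (-b + 1)) := of_bez (A := -(2 * b ^ 2 - 2 * b + 2)) (B := 1) hd h (by ring)
      exact not_dvd_one hr (of_bez (A := 1) (B := -2 * (-b - 1)) hd (h2' (h2' h1)) (by ring))

theorem seven_pow_mod16 (k : ℕ) : (7 : ℤ) ^ k % 16 = 1 ∨ (7 : ℤ) ^ k % 16 = 7 := by
  induction k with
  | zero => left; rfl
  | succ k ih => rw [pow_succ]; omega

/-- numerics for `Sz(q)`, `t ^ 2 = 2 q`, `t = 2 ^ (k + 1)`, `k ≥ 1` -/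
theorem num_Sz {p : ℕ} (hp : p.Prime) (h17 : 17 ≤ p) {k : ℕ} (hk : 1 ≤ k) {q t N : ℤ} (hq : q = 2 * 4 ^ k)
    (ht : t = 2 * 2 ^ k) (hdN : (p : ℤ) ∣ N) (hN : N = q - 1 ∨ N = q + t + 1 ∨ N = q - t + 1)
    (c1 : Cg p N (q - 1)) (cp : Cg p N (q + t + 1)) (cm : Cg p N (q - t + 1)) : False := by
  have hb : (2 : ℤ) ≤ 2 ^ k := by
    calc (2 : ℤ) = 2 ^ 1 := by norm_num
      _ ≤ 2 ^ k := pow_le_pow_right₀ (by norm_num) hk
  have h4 : (4 : ℤ) ^ k = 2 ^ k * 2 ^ k := by rw [← mul_pow]; norm_num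
  obtain ⟨b, hbdef⟩ : ∃ b : ℤ, b = 2 ^ k := ⟨_, rfl⟩
  rw [← hbdef] at hb ht h4
  have hq' : q = 2 * (b * b) := by rw [hq, h4]
  have hqt : 2 * q = t * t := by rw [hq', ht]; ring
  have hodd : ∀ {x : ℤ}, x % 2 = 1 → ∀ r : ℕ, r.Prime → (r : ℤ) ∣ x → r ≠ 2 := by
    rintro x hx r hr hd rfl
    push_cast at hd
    omega
  rcases hN with rfl | hN
  · -- `N = q - 1`
    obtain ⟨r, hr, hr2, hd⟩ := exists_odd_prime_int (x := q + t + 1) (by linarith only [hq, h4, ht, hb, _root_.mul_self_nonneg (b : ℤ)]) (by rw [hq', ht]; omega)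
    obtain ⟨s, hs, hs2, hd'⟩ := exists_odd_prime_int (x := q - t + 1) (by nlinarith only [hq, h4, ht, hb]) (by rw [hq', ht]; omega)
    have h1 : ∀ {r : ℕ} (_ : r.Prime) (_ : r ≠ 2) {e : ℤ} (_ : e = t ∨ e = -t) (_ : (r : ℤ) ∣ q + e + 1)
        (_ : r ≠ p → (r : ℤ) ∣ q - 1 - 1 ∨ (r : ℤ) ∣ q - 1 + 1), r = 5 := by
      intro r hr hr2 e he hd hc
      have hee : e * e = 2 * q := by rcases he with rfl | rfl <;> linarith only [hqt]
      have h2 : (r : ℤ) ∣ 2 → False := fun h => hr2 (eq_of_dvd hr Nat.prime_two h)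
      have hrp : r ≠ p := by
        rintro rfl
        have h5 : (r : ℤ) ∣ e + 2 := of_bez (A := 1) (B := -1) hd hdN (by ring)
        have h6 : (r : ℤ) ∣ 2 := of_bez (A := 2) (B := -e) hd h5 (by linear_combination (-1) * hee)
        exact h2 h6
      rcases hc hrp with h | h
      · have h5 : (r : ℤ) ∣ e + 3 := of_bez (A := 1) (B := -1) hd h (by ring)
        exact eq_of_dvd hr (by norm_num) (of_bez (A := 2) (B := -e + 1) (c := 5) hd h5 (by linear_combination (-1) * hee))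
      · have h5 : (r : ℤ) ∣ e + 1 := of_bez (A := 1) (B := -1) hd h (by ring)
        exact (not_dvd_one hr (of_bez (A := 2) (B := -e - 1) (c := 1) hd h5 (by linear_combination (-1) * hee))).elim
    have e1 := h1 hr hr2 (Or.inl rfl) hd (cp r hr hd)
    have e2 := h1 hs hs2 (Or.inr rfl) (by rw [← sub_eq_add_neg]; exact hd') (cm s hs hd')
    subst e1 e2
    have h5 : ((5 : ℕ) : ℤ) ∣ 2 * t := of_bez (A := 1) (B := -1) hd hd' (by ring)
    rw [ht, hbdef] at h5
    have h5' : (5 : ℤ) ∣ 2 ^ (k + 2) := by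
      have : (2 : ℤ) ^ (k + 2) = 2 * (2 * 2 ^ k) := by ring
      rw [this]
      exact_mod_cast h5
    have h6 := (Nat.prime_iff_prime_int.1 (by norm_num : Nat.Prime 5)).dvd_of_dvd_pow (by exact_mod_cast h5' : ((5 : ℕ) : ℤ) ∣ 2 ^ (k + 2))
    norm_num at h6
  · -- `N = q ± t + 1`
    obtain ⟨e, he, rfl⟩ : ∃ e : ℤ, (e = t ∨ e = -t) ∧ N = q + e + 1 := by
      rcases hN with h | h
      · exact ⟨t, Or.inl rfl, h⟩
      · exact ⟨-t, Or.inr rfl, by rw [h]; ring⟩
    have hee : e * e = 2 * q := by rcases he with rfl | rfl <;> linarith only [hqt]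
    have h1 : ∃ j : ℕ, q - 1 = ((7 : ℕ) : ℤ) ^ j := by
      refine pow_of_primes (by nlinarith only [hq, h4, hb]) fun r hr hd => ?_
      have hr2 := hodd (x := q - 1) (by rw [hq']; omega) r hr hd
      have h2 : (r : ℤ) ∣ 2 → False := fun h => hr2 (eq_of_dvd hr Nat.prime_two h)
      have hrp : r ≠ p := by
        rintro rfl
        have h5 : (r : ℤ) ∣ e + 2 := of_bez (A := -1) (B := 1) hd hdN (by ring)
        exact h2 (of_bez (A := -2) (B := e - 2) (c := -2) hd h5 (by linear_combination hee) |>.neg_right.trans (by norm_num))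
      rcases c1 r hr hd hrp with h | h
      · have h5 : (r : ℤ) ∣ e + 1 := of_bez (A := -1) (B := 1) hd h (by ring)
        exact (not_dvd_one hr (of_bez (A := 2) (B := -e + 1) (c := -1) hd h5 (by linear_combination (-1) * hee) |>.neg_right.trans (by norm_num))).elim
      · have h5 : (r : ℤ) ∣ e + 3 := of_bez (A := -1) (B := 1) hd h (by ring)
        exact eq_of_dvd hr (by norm_num) (of_bez (A := -2) (B := e - 3) (c := -7) hd h5 (by linear_combination hee) |>.neg_right.trans (by norm_num))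
    obtain ⟨j, hj⟩ := h1
    push_cast at hj
    rcases Nat.lt_or_ge k 2 with hk2 | hk2
    · obtain rfl : k = 1 := by omega
      norm_num at hbdef
      subst hbdef
      norm_num at ht hq'
      subst ht hq'
      have hsmall : ∀ {c : ℕ}, c.Prime → c < 17 → (p : ℤ) ∣ c → False := fun hc hlt h => by
        have := eq_of_dvd hp hc h
        omega
      rcases he with rfl | rfl
      · exact hsmall (c := 13) (by norm_num) (by norm_num) (by norm_num at hdN ⊢; exact hdN)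
      · exact hsmall (c := 5) (by norm_num) (by norm_num) (by norm_num at hdN ⊢; exact hdN)
    · obtain ⟨l, rfl⟩ : ∃ l, k = l + 2 := ⟨k - 2, by omega⟩
      have h16 := seven_pow_mod16 j
      rw [← hj, hq] at h16
      have e16 : (2 : ℤ) * 4 ^ (l + 2) = 32 * 4 ^ l := by rw [pow_add]; ring
      rw [e16] at h16
      omega

/-- numerics for `Ree(q)`: an odd prime dividing `q - 1` -/
theorem num_Ree {p : ℕ} {q t N : ℤ} (hqt : t * t = 3 * q) (hq : q % 4 = 3) (hq3 : 3 < q) (h3 : q % 3 = 0)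
    (hdN : (p : ℤ) ∣ N) (hN : N = q + t + 1 ∨ N = q - t + 1) (c1 : Cg p N (q - 1)) : False := by
  obtain ⟨x, hx⟩ : ∃ x, q - 1 = 2 * x := ⟨(q - 1) / 2, by (clear * - hq; omega)⟩
  obtain ⟨r, hr, hr2, hdx⟩ := exists_odd_prime_int (x := x) (by omega) (by (clear * - hq hx; omega))
  have hd : (r : ℤ) ∣ q - 1 := by rw [hx]; exact Dvd.dvd.mul_left hdx 2
  have h2 : (r : ℤ) ∣ 2 → False := fun h => hr2 (eq_of_dvd hr Nat.prime_two h)
  obtain ⟨e, he, rfl⟩ : ∃ e : ℤ, (e = t ∨ e = -t) ∧ N = q + e + 1 := by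
    rcases hN with h | h
    · exact ⟨t, Or.inl rfl, h⟩
    · exact ⟨-t, Or.inr rfl, by rw [h]; ring⟩
  have hee : e * e = 3 * q := by rcases he with rfl | rfl <;> linarith
  have hr3 : r ≠ 3 := by
    rintro rfl
    push_cast at hd
    omega
  have hrp : r ≠ p := by
    rintro rfl
    have h5 : (r : ℤ) ∣ e + 2 := of_bez (A := -1) (B := 1) hd hdN (by ring)
    exact not_dvd_one hr (of_bez (A := 3) (B := -e + 2) (c := 1) hd h5 (by linear_combination (-1) * hee))
  rcases c1 r hr hd hrp with h | h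
  · have h5 : (r : ℤ) ∣ e + 1 := of_bez (A := -1) (B := 1) hd h (by ring)
    exact h2 (of_bez (A := -3) (B := e - 1) (c := 2) hd h5 (by linear_combination hee))
  · have h5 : (r : ℤ) ∣ e + 3 := of_bez (A := -1) (B := 1) hd h (by ring)
    have h6 : (r : ℤ) ∣ 2 * 3 := of_bez (A := 3) (B := -e + 3) (c := 2 * 3) hd h5 (by linear_combination (-1) * hee)
    rcases (Nat.prime_iff_prime_int.1 hr).dvd_or_dvd h6 with h7 | h7
    · exact h2 h7
    · exact hr3 (eq_of_dvd hr Nat.prime_three h7)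

/-- `3 ^ j` modulo `13` -/
theorem three_pow_mod13 (j : ℕ) : (3 : ℤ) ^ (3 * j + 1) % 13 = 3 := by
  induction j with
  | zero => rfl
  | succ j ih =>
    have e : (3 : ℤ) ^ (3 * (j + 1) + 1) = 27 * 3 ^ (3 * j + 1) := by
      rw [show 3 * (j + 1) + 1 = 3 + (3 * j + 1) by ring, pow_add]; ring
    rw [e]
    omega

/-- numerics for `PΩ⁻(2 m, 3)`: the prime `13` -/
theorem num_OM {p : ℕ} (h13 : p ≠ 13) {X N : ℤ} (hX : X % 13 = 3) (hN : 2 * N = X + 1 ∨ 4 * N = 3 * X + 1)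
    (c : Cg p N 13) : False := by
  rcases c 13 (by norm_num) (by norm_num) h13.symm with h | h <;> push_cast at h <;> omega

/-! ### `PSL₂` -/

/-- `n` is a power of `3` bigger than `5` -/
theorem nine_dvd {n : ℕ} (hn : 5 < n) (h : ∀ r : ℕ, r.Prime → r ∣ n → r = 3) : 9 ∣ n := by
  have h2 := Nat.eq_prime_pow_of_unique_prime_dvd (n := n) (by omega) (fun {d} hd hdd => h d hd hdd)
  generalize n.primeFactorsList.length = k at h2
  rcases k with _ | _ | k
  · norm_num at h2; omega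
  · norm_num at h2; omega
  · rw [h2]
    exact Dvd.intro_left (3 ^ k) (by ring)

/-- `p ^ 2 ≡ 1` modulo `9` and `N = p ^ a` -/
theorem sq_mod {p : ℕ} {d : ℤ} (h : d ∣ (p : ℤ) ^ 2 - 1) {N : ℤ} (hN : ∃ a : ℕ, N = (p : ℤ) ^ a) : d ∣ N ^ 2 - 1 := by
  obtain ⟨a, rfl⟩ := hN
  refine h.trans ?_
  rw [← pow_mul, mul_comm a 2, pow_mul]
  have := sub_dvd_pow_sub_pow ((p : ℤ) ^ 2) 1 a
  rwa [one_pow] at this

end Cfsg.Agent.H432.PG.Num
end

-- part: H432/PG/Lin
section
/-!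
# `PSL_2(q)` with the prime graph of `PSL_2(p)`: `q = p` (helper432)
-/

set_option autoImplicit false

namespace Cfsg.Agent.H432.PG

open Cfsg.Agent.H94

section

variable {F : Type*} [Field F] [Fintype F] {p n m : ℕ}

/-- existence of elements of the orders -/
theorem psl_orders (s : ℕ) [Fact s.Prime] [CharP F s] (hF : 4 ≤ Fintype.card F) (k : ℕ) :
    (∃ g : Matrix.ProjectiveSpecialLinearGroup (Fin 2) F, orderOf g = k) ↔
      (k ∣ s ∨ k ∣ (Fintype.card F - 1) / H390.PslSpec.dd (Fintype.card F) ∨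
        k ∣ (Fintype.card F + 1) / H390.PslSpec.dd (Fintype.card F)) := by
  have h := H390.PslSpec.range_orderOf (F := F) (p := s) hF
  have h1 : k ∈ Set.range (orderOf : Matrix.ProjectiveSpecialLinearGroup (Fin 2) F → ℕ) ↔ k ∈ H390.PslSpec.specSet s (Fintype.card F) := by
    rw [h]
  simpa only [H390.PslSpec.specSet, _root_.Set.mem_range, _root_.Set.mem_ofPred_eq] using h1

/-- `q` even -/
theorem psl_even (hF : 4 ≤ Fintype.card F) (he : Even (Fintype.card F))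
    (B : PB (Matrix.ProjectiveSpecialLinearGroup (Fin 2) F) p n m) : False := by
  obtain ⟨s, hs⟩ := CharP.exists F
  obtain ⟨g, hsp, hsg⟩ := FiniteField.card F s
  have hs2 : s = 2 := by
    have heven : Even (s ^ (g : ℕ)) := by rw [← hsg]; exact he
    exact (hsp.even_iff).mp (Nat.even_pow.mp heven).1
  subst hs2
  have := Fact.mk Nat.prime_two
  have hord := psl_orders (F := F) 2 hF
  rw [H390.PslSpec.dd_even he (by omega), Nat.div_one, Nat.div_one] at hord
  set q := Fintype.card F with hq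
  have hp17 := B.p_ge
  have hp := B.A.hp
  have hqe : q % 2 = 0 := Nat.even_iff.1 he
  -- primes of the group order
  have hcase : ∀ r : ℕ, r.Prime → r ≠ 2 → r ∣ Nat.card (Matrix.ProjectiveSpecialLinearGroup (Fin 2) F) →
      r ∣ q - 1 ∨ r ∣ q + 1 := by
    intro r hr hr2 hd
    have := Fact.mk hr
    obtain ⟨x, hx⟩ := exists_prime_orderOf_dvd_card' r hd
    rcases (hord r).1 ⟨x, hx⟩ with h | h
    · exact absurd ((Nat.prime_dvd_prime_iff_eq hr Nat.prime_two).1 h) hr2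
    · exact h
  have hexd : ∀ k : ℕ, (k ∣ q - 1 ∨ k ∣ q + 1) → k ∣ Nat.card (Matrix.ProjectiveSpecialLinearGroup (Fin 2) F) := by
    intro k hk
    obtain ⟨x, hx⟩ := (hord k).2 (Or.inr hk)
    rw [← hx]
    exact orderOf_dvd_natCard _
  obtain ⟨N, M, hNM, hN, hM, hpN⟩ : ∃ N M : ℕ, ((N = M + 2) ∨ (M = N + 2)) ∧ (N = q - 1 ∨ N = q + 1) ∧
      (M = q - 1 ∨ M = q + 1) ∧ p ∣ N := by
    rcases hcase p hp (by omega) B.dp with h | h
    · exact ⟨q - 1, q + 1, Or.inr (by omega), Or.inl rfl, Or.inr rfl, h⟩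
    · exact ⟨q + 1, q - 1, Or.inl (by omega), Or.inr rfl, Or.inl rfl, h⟩
  have hNp := Nat.le_of_dvd (by omega) hpN
  have hNo : (∃ g : Matrix.ProjectiveSpecialLinearGroup (Fin 2) F, orderOf g = N) := (hord N).2 (Or.inr (by
    rcases hN with h | h
    · exact Or.inl (dvd_of_eq h)
    · exact Or.inr (dvd_of_eq h)))
  have hpow := B.pow_eq hNo hpN
  have hodd : ∀ {r : ℕ}, (r ∣ N ∨ r ∣ M) → r ≠ 2 := by
    rintro r h rfl
    (clear * - hF hqe hN hM h; omega)
  have key3 : ∀ r : ℕ, r.Prime → r ∣ M → r = 3 := by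
    intro r hr hrM
    have hr2 := hodd (Or.inr hrM)
    have hrp : r ≠ p := by
      rintro rfl
      have h2 : r ∣ 2 := by
        rcases hNM with h | h
        · exact (Nat.dvd_add_right hrM).1 (h ▸ hpN)
        · exact (Nat.dvd_add_right hpN).1 (h ▸ hrM)
      exact hr2 ((Nat.prime_dvd_prime_iff_eq hr Nat.prime_two).1 h2)
    have h1 := B.pm hpow hr (hexd r (by
      rcases hM with h | h
      · exact Or.inl (h ▸ hrM)
      · exact Or.inr (h ▸ hrM))) hrp
    have hrM' : (r : ℤ) ∣ M := Int.natCast_dvd_natCast.2 hrM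
    refine Num.eq_of_dvd hr Nat.prime_three ?_
    rcases hNM with h | h
    · have e : (N : ℤ) = M + 2 := by exact_mod_cast h
      rw [e] at h1
      exact Num.of_bez (A := -((M : ℤ) + 4)) (B := 1) hrM' h1 (by push_cast; ring)
    · have e : (M : ℤ) = N + 2 := by exact_mod_cast h
      rw [e] at hrM'
      exact Num.of_bez (A := -((N : ℤ) - 2)) (B := 1) hrM' h1 (by push_cast; ring)
  have h9M := Num.nine_dvd (n := M) (by (clear * - hp17 hN hM hNp; omega)) key3
  have h9n := Num.nine_dvd B.A.n_pos (by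
    intro r hr hrn
    have hr2 := B.ne_two hrn
    rcases hcase r hr hr2 (B.dn r hr hrn) with h | h
    · rcases hM with h' | h'
      · exact key3 r hr (h' ▸ h)
      · have hrN : r ∣ N := by
          have : N = q - 1 := by (clear * - hNM hN h'; omega)
          rw [this]; exact h
        have := B.A.not_p_dvd_n
        obtain ⟨a, ha⟩ := hpow
        rw [ha] at hrN
        exact absurd ((Nat.prime_dvd_prime_iff_eq hr hp).1 (hr.dvd_of_dvd_pow hrN) ▸ hrn) this
    · rcases hM with h' | h'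
      · have hrN : r ∣ N := by
          have : N = q + 1 := by (clear * - hF hNM hN h'; omega)
          rw [this]; exact h
        have := B.A.not_p_dvd_n
        obtain ⟨a, ha⟩ := hpow
        rw [ha] at hrN
        exact absurd ((Nat.prime_dvd_prime_iff_eq hr hp).1 (hr.dvd_of_dvd_pow hrN) ▸ hrn) this
      · exact key3 r hr (h' ▸ h))
  have h9p : (9 : ℤ) ∣ (p : ℤ) ^ 2 - 1 := by
    rw [B.A.sq_eq]
    have : (9 : ℤ) ∣ (n : ℤ) := by exact_mod_cast h9n
    exact Dvd.dvd.mul_right (Dvd.dvd.mul_left this 4) _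
  have h9N := Num.sq_mod (p := p) h9p (N := (N : ℤ)) (by
    obtain ⟨a, ha⟩ := hpow
    exact ⟨a, by rw [ha]; push_cast; ring⟩)
  have h9M' : (9 : ℤ) ∣ M := by exact_mod_cast h9M
  have h93 : (9 : ℤ) ∣ 3 := by
    rcases hNM with h | h
    · have e : (N : ℤ) = M + 2 := by exact_mod_cast h
      rw [e] at h9N
      have := dvd_sub h9N (Dvd.dvd.mul_left h9M' ((M : ℤ) + 4))
      ring_nf at this
      exact this
    · have e : (M : ℤ) = N + 2 := by exact_mod_cast h
      rw [e] at h9M'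
      have := dvd_sub h9N (Dvd.dvd.mul_left h9M' ((N : ℤ) - 2))
      ring_nf at this
      exact this
  norm_num at h93

/-- `q` odd -/
theorem psl_odd (hF : 4 ≤ Fintype.card F) (ho : Odd (Fintype.card F))
    (B : PB (Matrix.ProjectiveSpecialLinearGroup (Fin 2) F) p n m) : Fintype.card F = p := by
  obtain ⟨s, hs⟩ := CharP.exists F
  obtain ⟨⟨f, hf⟩, hsp, hsg⟩ := FiniteField.card F s
  have := Fact.mk hsp
  have hord := psl_orders (F := F) s hF
  rw [H390.PslSpec.dd_odd ho] at hord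
  simp only [PNat.mk_coe] at hsg
  set q := Fintype.card F with hq
  have hp17 := B.p_ge
  have hp := B.A.hp
  have hqo : q % 2 = 1 := Nat.odd_iff.1 ho
  -- the odd number `T` and the even number `T'`
  obtain ⟨T, T', hTT, hT, hT'⟩ : ∃ T T' : ℕ, ((2 * T = q + 1 ∧ 2 * T' = q - 1) ∨ (2 * T = q - 1 ∧ 2 * T' = q + 1)) ∧
      T % 2 = 1 ∧ T' % 2 = 0 := by
    rcases (by omega : q % 4 = 1 ∨ q % 4 = 3) with h | h
    · exact ⟨(q + 1) / 2, (q - 1) / 2, Or.inl (by (clear * - h; omega)), by (clear * - h; omega), by (clear * - h; omega)⟩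
    · exact ⟨(q - 1) / 2, (q + 1) / 2, Or.inr (by (clear * - h; omega)), by (clear * - h; omega), by (clear * - h; omega)⟩
  have hord' : ∀ k : ℕ, (∃ g : Matrix.ProjectiveSpecialLinearGroup (Fin 2) F, orderOf g = k) ↔
      (k ∣ s ∨ k ∣ T ∨ k ∣ T') := by
    intro k
    rw [hord]
    rcases hTT with ⟨h1, h2⟩ | ⟨h1, h2⟩
    · rw [show (q - 1) / 2 = T' by omega, show (q + 1) / 2 = T by (clear * - h1; omega)]
      (clear * -; tauto)
    · rw [show (q - 1) / 2 = T by omega, show (q + 1) / 2 = T' by (clear * - h2; omega)]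
  have hcase : ∀ r : ℕ, r.Prime → r ∣ Nat.card (Matrix.ProjectiveSpecialLinearGroup (Fin 2) F) →
      ¬ H94.PG.Conn (Matrix.ProjectiveSpecialLinearGroup (Fin 2) F) 2 r → r = s ∨ r ∣ T := by
    intro r hr hd hnc
    have := Fact.mk hr
    obtain ⟨x, hx⟩ := exists_prime_orderOf_dvd_card' r hd
    rcases (hord' r).1 ⟨x, hx⟩ with h | h | h
    · exact Or.inl ((Nat.prime_dvd_prime_iff_eq hr hsp).1 h)
    · exact Or.inr h
    · exfalso
      obtain ⟨y, hy⟩ := (hord' T').2 (Or.inr (Or.inr dvd_rfl))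
      exact hnc (H94.PG.conn_of_orderOf Nat.prime_two hr (x := y) (by rw [hy]; omega) (by rw [hy]; exact h))
  have hexd : ∀ k : ℕ, (k ∣ s ∨ k ∣ T ∨ k ∣ T') →
      k ∣ Nat.card (Matrix.ProjectiveSpecialLinearGroup (Fin 2) F) := by
    intro k hk
    obtain ⟨x, hx⟩ := (hord' k).2 hk
    rw [← hx]
    exact orderOf_dvd_natCard _
  by_cases hsp' : p = s
  · -- the characteristic is `p`
    subst hsp'
    rcases Nat.lt_or_ge f 2 with h | h
    · obtain rfl : f = 1 := by omega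
      rw [hsg, pow_one]
    · exfalso
      obtain ⟨z, hz, hzd, hzk⟩ := Cfsg.Agent.S2904.result p (2 * f) hp.one_lt (by omega) (by omega) (by omega)
      have hz2 : ¬ z ∣ p ^ 2 - 1 := hzk 2 (by omega) (by omega)
      have hzq : z ∣ (q - 1) * (q + 1) := by
        have e : p ^ (2 * f) - 1 = (q + 1) * (q - 1) := by
          rw [mul_comm, pow_mul, ← hsg]
          have := Nat.sq_sub_sq q 1
          rw [one_pow] at this
          exact this
        rw [e, mul_comm] at hzd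
        exact hzd
      have hz22 : z ≠ 2 := by
        rintro rfl
        apply hz2
        have := B.A.odd_p
        have h1 : (p ^ 2) % 2 = 1 := by rw [Nat.pow_mod, this]
        omega
      have hzT : z ∣ T ∨ z ∣ T' := by
        have e : (q - 1) * (q + 1) = 2 ^ 2 * (T * T') := by
          rcases hTT with ⟨h1, h2⟩ | ⟨h1, h2⟩
          · rw [← h1, ← h2]; ring
          · rw [← h1, ← h2]; ring
        rw [e] at hzq
        rcases hz.dvd_mul.1 hzq with h1 | h1
        · exact absurd ((Nat.prime_dvd_prime_iff_eq hz Nat.prime_two).1 (hz.dvd_of_dvd_pow h1)) hz22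
        · exact hz.dvd_mul.1 h1
      have hzp : z ≠ p := by
        rintro rfl
        have h1 : z ∣ z ^ (2 * f) := dvd_pow_self z (by omega)
        have h2 : 1 ≤ z ^ (2 * f) := Nat.one_le_pow _ _ hz.pos
        have h3 := (Nat.dvd_sub_iff_right h2 h1).1 hzd
        exact hz.one_lt.ne' (Nat.dvd_one.1 h3)
      have h1 := B.dvd_sq hz (hexd z (Or.inr hzT)) hzp
      apply hz2
      have h2 : 1 ≤ p ^ 2 := Nat.one_le_pow _ _ hp.pos
      have h3 : ((p ^ 2 - 1 : ℕ) : ℤ) = (p : ℤ) ^ 2 - 1 := by push_cast [Nat.cast_sub h2]; ring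
      rw [← h3] at h1
      exact Int.natCast_dvd_natCast.1 h1
  · exfalso
    have hpT : p ∣ T := (hcase p hp B.dp B.not_conn_p).resolve_left hsp'
    have hpow := B.pow_eq ((hord' T).2 (Or.inr (Or.inl dvd_rfl))) hpT
    have hns : ∀ r : ℕ, r.Prime → r ∣ n → r = s := by
      intro r hr hrn
      rcases hcase r hr (B.dn r hr hrn) (B.not_conn_n hrn) with h | h
      · exact h
      · obtain ⟨a, ha⟩ := hpow
        rw [ha] at h
        exact absurd ((Nat.prime_dvd_prime_iff_eq hr hp).1 (hr.dvd_of_dvd_pow h) ▸ hrn) B.A.not_p_dvd_n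
    have hsq : s ∣ q := by rw [hsg]; exact dvd_pow_self s hf.ne'
    have hsq' : (s : ℤ) ∣ q := Int.natCast_dvd_natCast.2 hsq
    have h4 : (4 : ℤ) * ((T : ℤ) ^ 2 - 1) = (q : ℤ) ^ 2 + 2 * q - 3 ∨ (4 : ℤ) * ((T : ℤ) ^ 2 - 1) = (q : ℤ) ^ 2 - 2 * q - 3 := by
      rcases hTT with ⟨h1, -⟩ | ⟨h1, -⟩
      · left
        have : (2 : ℤ) * T = q + 1 := by exact_mod_cast h1
        have e : (4 : ℤ) * ((T : ℤ) ^ 2 - 1) = (2 * T) ^ 2 - 4 := by ring
        rw [e, this]; ring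
      · right
        have : (2 : ℤ) * T = q - 1 := by
          have h2 : 2 * T + 1 = q := by (clear * - hT h1; omega)
          have : (2 : ℤ) * T + 1 = q := by exact_mod_cast h2
          linarith only [h2]
        have e : (4 : ℤ) * ((T : ℤ) ^ 2 - 1) = (2 * T) ^ 2 - 4 := by ring
        rw [e, this]; ring
    have hs3 : s = 3 := by
      have h1 := B.pm hpow hsp (hexd s (Or.inl dvd_rfl)) (Ne.symm hsp')
      refine Num.eq_of_dvd hsp Nat.prime_three ?_
      rcases h4 with h4 | h4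
      · exact Num.of_bez (A := (q : ℤ) + 2) (B := -4) hsq' h1 (by push_cast; linear_combination (-1) * h4)
      · exact Num.of_bez (A := (q : ℤ) - 2) (B := -4) hsq' h1 (by push_cast; linear_combination (-1) * h4)
    subst hs3
    have h9n := Num.nine_dvd B.A.n_pos hns
    have h9p : (9 : ℤ) ∣ (p : ℤ) ^ 2 - 1 := by
      rw [B.A.sq_eq]
      have : (9 : ℤ) ∣ (n : ℤ) := by exact_mod_cast h9n
      exact Dvd.dvd.mul_right (Dvd.dvd.mul_left this 4) _
    have h9N := Num.sq_mod (p := p) h9p (N := (T : ℤ)) (by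
      obtain ⟨a, ha⟩ := hpow
      exact ⟨a, by rw [ha]; push_cast; ring⟩)
    have h9q : (9 : ℤ) ∣ q := by
      obtain ⟨f', rfl⟩ : ∃ f', f = f' + 2 := by
        refine ⟨f - 2, ?_⟩
        have : f ≠ 1 := by
          rintro rfl
          rw [pow_one] at hsg
          omega
        omega
      rw [hsg]
      push_cast
      exact Dvd.intro_left ((3 : ℤ) ^ f') (by ring)
    have h93 : (9 : ℤ) ∣ 3 := by
      rcases h4 with h4 | h4
      · have h1 := dvd_sub (Dvd.dvd.mul_left h9q ((q : ℤ) + 2)) (Dvd.dvd.mul_left h9N 4)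
        have e : ((q : ℤ) + 2) * q - 4 * ((T : ℤ) ^ 2 - 1) = 3 := by linear_combination (-1) * h4
        rwa [e] at h1
      · have h1 := dvd_sub (Dvd.dvd.mul_left h9q ((q : ℤ) - 2)) (Dvd.dvd.mul_left h9N 4)
        have e : ((q : ℤ) - 2) * q - 4 * ((T : ℤ) ^ 2 - 1) = 3 := by linear_combination (-1) * h4
        rwa [e] at h1
    norm_num at h93

/-- **`PSL_2(q)`** -/
theorem psl_card (hF : 4 ≤ Fintype.card F) (B : PB (Matrix.ProjectiveSpecialLinearGroup (Fin 2) F) p n m) :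
    Fintype.card F = p := by
  rcases Nat.even_or_odd (Fintype.card F) with h | h
  · exact (psl_even hF h B).elim
  · exact psl_odd hF h B

end

end Cfsg.Agent.H432.PG
end

private theorem dce_832b7a20c7b4 : _root_.True := by
  try have : _root_.True := by simp only [_root_.Matrix.ProjectiveSpecialLinearGroup.congr_simp]
  try have : _root_.True := by simp only [_root_.Cfsg.Agent.H390.PslSpec.specSet.eq_1]
  exact _root_.True.intro
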